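import Cfsg.Prelude.Def_Classical
import Cfsg.Agent.H80.SympTwo
import Cfsg.Agent.ClassicalGeometry.OrthDickson
set_option linter.all false

/-!
# Involutions of orthogonal groups, `F` finite of characteristic two (helper80)

`Q` a quadratic form on `ι → F` with nondegenerate polar form, `Qf = ⇑Q`.

* `rank_sub_one_eq` : `rank (g - 1) = card ι - dim Fix g`;
* `mem_commutator_iff` : an isometry `g` is in the commutator subgroup iff `rank (g - 1)` is even
  (`|F| ≠ 2` or `card ι ≠ 4`);
* `conj_iff_polar` : two isometries `t, s` with square 1 are conjugate iff they are conjugate in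
  the isometry group of the polar form;
* `conj_of_rank_quad` : conjugacy from the rank and the vanishing of `Q` on `(t - 1)V`.
-/

set_option autoImplicit false
set_option linter.unusedSectionVars false

namespace Cfsg.Agent.H80

open Module Matrix QuadraticMap
open Cfsg.Agent.ClassicalGeometry.OrthCharTwo
open Cfsg.Agent.ClassicalGeometry.OrthDickson
open Cfsg.Agent.ClassicalGeometry.Reflection

variable {ι : Type} [Fintype ι] [DecidableEq ι] {F : Type*} [Field F]

/-- the matrix of an isometry -/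
abbrev mat {Q : (ι → F) → F} (g : Cfsg.isometryGroup F Q) : Matrix ι ι F :=
  ((g : GL ι F) : Matrix ι ι F)

theorem finrank_fixSp_add_rank {Q : (ι → F) → F} (g : Cfsg.isometryGroup F Q) :
    (mat g - 1).rank + finrank F (fixSp g) = Fintype.card ι := by
  have h1 := LinearMap.finrank_range_add_finrank_ker (Matrix.mulVecLin (mat g - 1))
  rw [finrank_fintype_fun_eq_card] at h1
  have h2 : LinearMap.ker (Matrix.mulVecLin (mat g - 1)) = fixSp g := by
    ext x
    rw [LinearMap.mem_ker, Matrix.mulVecLin_apply, Matrix.sub_mulVec, Matrix.one_mulVec,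
      sub_eq_zero]
    rfl
  rw [h2] at h1
  exact h1

theorem dsign_eq (Q : QuadraticForm F (ι → F)) (g : Cfsg.isometryGroup F (⇑Q)) :
    dsign Q g = (-1) ^ (mat g - 1).rank := by
  have h := finrank_fixSp_add_rank g
  rw [dsign_def, ← h, ← add_assoc, add_comm _ (mat g - 1).rank, add_assoc, pow_add, ← two_mul,
    pow_mul]
  simp

/-- **Membership in `Ω`.** -/
theorem mem_commutator_iff [Finite F] (h2 : (2 : F) = 0) (Q : QuadraticForm F (ι → F))
    (hQ : (polarBilin Q).Nondegenerate)
    (h : (∃ θ : F, θ ≠ 0 ∧ θ ≠ 1) ∨ Fintype.card ι ≠ 4) [Nonempty ι]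
    (g : Cfsg.isometryGroup F (⇑Q)) :
    g ∈ commutator (Cfsg.isometryGroup F (⇑Q)) ↔ Even (mat g - 1).rank := by
  constructor
  · intro hg
    have h1 := dsign_eq_one_of_mem_commutator Q hQ h g hg
    rw [dsign_eq] at h1
    by_contra hodd
    rw [Nat.not_even_iff_odd] at hodd
    rw [hodd.neg_one_pow] at h1
    exact absurd h1 (by decide)
  · intro he
    by_contra hg
    -- a reflection
    obtain ⟨u, hu⟩ : ∃ u, Q u ≠ 0 := by
      by_contra hcon
      push Not at hcon
      obtain ⟨i⟩ := ‹Nonempty ι›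
      have h1 : (Pi.single i (1 : F) : ι → F) = 0 := by
        apply nondeg_left Q hQ
        intro y
        rw [polar, hcon, hcon, hcon]
        ring
      have h3 := congrFun h1 i
      simp at h3
    have h4 := refl_notMem_commutator Q hQ h u hu
    have h5 := (Subgroup.mul_mem_iff_of_index_two (index_commutator_two Q h2 hQ h)
      (a := g) (b := reflIso Q u hu)).2 ⟨fun h => absurd h hg, fun h => absurd h h4⟩
    have h6 := dsign_eq_one_of_mem_commutator Q hQ h _ h5
    have h7 : dsign Q (g * reflIso Q u hu) = dsign Q g * dsign Q (reflIso Q u hu) :=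
      dsign_mul_of_gen Q hQ h _ _
    rw [h7, dsign_refl Q hQ, dsign_eq, he.neg_one_pow] at h6
    exact absurd h6 (by decide)

section Conj

variable [Finite F] (h2 : (2 : F) = 0) (Q : QuadraticForm F (ι → F))

theorem nondeg_of (hQ : ∀ x, (∀ y, polar Q x y = 0) → x = 0) : (polarBilin Q).Nondegenerate := by
  have h1 : ∀ x y, polarBilin Q x y = polar Q x y := fun x y => rfl
  have h3 : (polarBilin Q).SeparatingLeft := fun x hx => hQ x hx
  exact ⟨h3, fun x hx => hQ x fun y => by rw [polar_comm]; exact hx y⟩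

/-- the linear map of an isometry preserves `Q` -/
theorem lin_iso (g : Cfsg.isometryGroup F (⇑Q)) (x : ι → F) :
    Q (Matrix.mulVecLin (mat g) x) = Q x := Q_act g x

theorem lin_sq {g : Cfsg.isometryGroup F (⇑Q)} (hg : g ^ 2 = 1) (x : ι → F) :
    Matrix.mulVecLin (mat g) (Matrix.mulVecLin (mat g) x) = x := by
  show act g (act g x) = x
  rw [← act_mul, ← _root_.sq, hg, act_one]

/-- **Conjugacy from rank and type.** -/
theorem conj_of_rank_quad (h2 : (2 : F) = 0) (hQ : (polarBilin Q).Nondegenerate)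
    {t s : Cfsg.isometryGroup F (⇑Q)}
    (ht : t ^ 2 = 1) (hs : s ^ 2 = 1) (hr : (mat t - 1).rank = (mat s - 1).rank)
    (ha : (∀ x, Q (act t x - x) = 0) ↔ ∀ x, Q (act s x - x) = 0) :
    ∃ g : Cfsg.isometryGroup F (⇑Q), g * t * g⁻¹ = s := by
  rw [rank_sub_one, rank_sub_one] at hr
  obtain ⟨g, hg, hgt⟩ := conj_quad Q hQ (t := Matrix.mulVecLin (mat t))
    (s := Matrix.mulVecLin (mat s)) h2 (exists_sq_two h2) (lin_iso Q t) (lin_sq Q ht)
    (lin_iso Q s) (lin_sq Q hs) hr ha
  set M : Matrix ι ι F := LinearMap.toMatrix' g.toLinearMap with hM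
  set M' : Matrix ι ι F := LinearMap.toMatrix' g.symm.toLinearMap with hM'
  have hMM : M * M' = 1 := by
    rw [hM, hM', ← LinearMap.toMatrix'_comp]
    simp
  have hMM' : M' * M = 1 := by
    rw [hM, hM', ← LinearMap.toMatrix'_comp]
    simp
  have hMv : ∀ x, M *ᵥ x = g x := fun x => by
    rw [hM, LinearMap.toMatrix'_mulVec]
    rfl
  refine ⟨⟨⟨M, M', hMM, hMM'⟩, ?_⟩, ?_⟩
  · rw [mem_isometryGroup_iff]
    intro x
    show Q (M *ᵥ x) = Q x
    rw [hMv, hg]
  · rw [mul_inv_eq_iff_eq_mul]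
    apply act_ext
    intro x
    rw [act_mul, act_mul]
    show M *ᵥ (act t x) = act s (M *ᵥ x)
    rw [hMv, hMv]
    exact hgt x

/-- The type is invariant under conjugation by isometries of the polar form. -/
theorem conj_iff_polar_aux (h2 : (2 : F) = 0) (hQ : (polarBilin Q).Nondegenerate)
    {t s : Cfsg.isometryGroup F (⇑Q)}
    (ht : t ^ 2 = 1) (hs : s ^ 2 = 1) :
    IsConj t s ↔ ∃ g ∈ Cfsg.preserving (Units.coeHom (Matrix ι ι F))
      (fun u v => Q (u + v) - Q u - Q v), g * (t : GL ι F) * g⁻¹ = (s : GL ι F) := by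
  constructor
  · intro h
    obtain ⟨g, hg⟩ := isConj_iff.1 h
    refine ⟨g, ?_, congrArg Subtype.val hg⟩
    intro u v
    show polar Q (act g u) (act g v) = polar Q u v
    exact polar_act g u v
  · rintro ⟨g, hgp, hg⟩
    have hg' : g * (t : GL ι F) = (s : GL ι F) * g := by rw [← hg]; group
    have hgm : (g : Matrix ι ι F) * mat t = mat s * (g : Matrix ι ι F) :=
      congrArg Units.val hg'
    have hu : IsUnit (g : Matrix ι ι F).det :=
      (Matrix.isUnit_iff_isUnit_det _).1 g.isUnit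
    have hpol : ∀ u v, polar Q ((g : Matrix ι ι F) *ᵥ u) ((g : Matrix ι ι F) *ᵥ v) = polar Q u v :=
      fun u v => hgp u v
    have hact : ∀ x, (g : Matrix ι ι F) *ᵥ (act t x) = act s ((g : Matrix ι ι F) *ᵥ x) := by
      intro x
      rw [act_def, act_def, Matrix.mulVec_mulVec, hgm, Matrix.mulVec_mulVec]
    -- `Q (t x - x) = - polar (x, t x - x)`
    have hq : ∀ (r : Cfsg.isometryGroup F (⇑Q)) x, Q (act r x - x) = - polar Q x (act r x - x) :=
      fun r x => quad_nil Q (t := Matrix.mulVecLin (mat r)) (lin_iso Q r) x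
    have hrank : (mat t - 1).rank = (mat s - 1).rank := by
      have h1 : (g : Matrix ι ι F) * (mat t - 1) = (mat s - 1) * (g : Matrix ι ι F) := by
        rw [mul_sub, sub_mul, hgm, mul_one, one_mul]
      rw [← Matrix.rank_mul_eq_right_of_isUnit_det _ _ hu, h1,
        Matrix.rank_mul_eq_left_of_isUnit_det _ _ hu]
    have hval : ∀ x, Q (act s ((g : Matrix ι ι F) *ᵥ x) - (g : Matrix ι ι F) *ᵥ x)
        = Q (act t x - x) := by
      intro x
      rw [hq, hq, ← hact, ← Matrix.mulVec_sub, hpol]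
    obtain ⟨k, hk⟩ := conj_of_rank_quad Q h2 hQ ht hs hrank (by
      constructor
      · intro h x
        have h3 : (g : Matrix ι ι F) *ᵥ (((g⁻¹ : GL ι F) : Matrix ι ι F) *ᵥ x) = x := by
          rw [Matrix.mulVec_mulVec, ← Units.val_mul, mul_inv_cancel, Units.val_one,
            Matrix.one_mulVec]
        rw [← h3, hval, h]
      · intro h x
        rw [← hval, h])
    exact isConj_iff.2 ⟨k, hk⟩

end Conj

/-- version for a function `Qf = ⇑Q` -/
theorem conj_iff_polar [Finite F] (h2 : (2 : F) = 0) {Qf : (ι → F) → F}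
    {Q : QuadraticForm F (ι → F)} (hf : ⇑Q = Qf)
    (hQ : ∀ x, (∀ y, polar Q x y = 0) → x = 0) {t s : Cfsg.isometryGroup F Qf}
    (ht : t ^ 2 = 1) (hs : s ^ 2 = 1) :
    IsConj t s ↔ ∃ g ∈ Cfsg.preserving (Units.coeHom (Matrix ι ι F))
      (fun u v => Qf (u + v) - Qf u - Qf v), g * (t : GL ι F) * g⁻¹ = (s : GL ι F) := by
  subst hf
  exact conj_iff_polar_aux Q h2 (nondeg_of Q hQ) ht hs

/-- version for a function `Qf = ⇑Q` -/
theorem mem_Omega_iff [Finite F] (h2 : (2 : F) = 0) {Qf : (ι → F) → F}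
    {Q : QuadraticForm F (ι → F)} (hf : ⇑Q = Qf)
    (hQ : ∀ x, (∀ y, polar Q x y = 0) → x = 0) (hc : Fintype.card ι ≠ 4) [Nonempty ι]
    (g : Cfsg.isometryGroup F Qf) :
    g ∈ Cfsg.Omega F Qf ↔ Even (mat g - 1).rank := by
  subst hf
  exact mem_commutator_iff h2 Q (nondeg_of Q hQ) (Or.inr hc) g

end Cfsg.Agent.H80
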