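import Cfsg.Agent.H80.OrthTwo
import Cfsg.Agent.ClassicalGeometry.TwoFamilies
import Cfsg.Agent.ClassicalGeometry.SubmaximalCount
import Cfsg.Agent.LieClassical.OrthForms
set_option linter.all false

-- part: H80/OrthSplit
section
/-!
# Involutions of `Ω(Q)` conjugate in `O(Q)`, `F` finite of characteristic two (helper80)

* `exists_commutator_conj` : `g t g⁻¹ = s` and `t` fixes a nonsingular vector: then `t`, `s` are
  conjugate by an element of the commutator subgroup;
* `singular_case` : if all fixed vectors of `t` are singular, `rank (t - 1) = m` (`2m = dim V`) and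
  `Q (t x - x) = 0` for all `x`, and `ker (t - 1) = im (t - 1)`;
* `mem_commutator_iff_inter` : `W` totally singular of dimension `m`, then `g` is in the commutator
  subgroup iff `dim (W ∩ g W) + m` is even.
-/

set_option autoImplicit false
set_option linter.unusedSectionVars false

namespace Cfsg.Agent.H80

open Module Matrix QuadraticMap
open Cfsg.Agent.ClassicalGeometry.OrthCharTwo
open Cfsg.Agent.ClassicalGeometry.OrthDickson
open Cfsg.Agent.ClassicalGeometry.Reflection

variable {ι : Type} [Fintype ι] [DecidableEq ι] {F : Type*} [Field F] [Finite F]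
variable (Q : QuadraticForm F (ι → F))

theorem index_two_mul (h2 : (2 : F) = 0) (hQ : (polarBilin Q).Nondegenerate)
    (h : (∃ θ : F, θ ≠ 0 ∧ θ ≠ 1) ∨ Fintype.card ι ≠ 4) [Nonempty ι]
    {g : Cfsg.isometryGroup F (⇑Q)} (hg : g ∉ commutator (Cfsg.isometryGroup F (⇑Q)))
    (u : ι → F) (hu : Q u ≠ 0) :
    g * reflIso Q u hu ∈ commutator (Cfsg.isometryGroup F (⇑Q)) :=
  (Subgroup.mul_mem_iff_of_index_two (index_commutator_two Q h2 hQ h)).2
    ⟨fun h => absurd h hg, fun h' => absurd h' (refl_notMem_commutator Q hQ h u hu)⟩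

/-- conjugacy by the commutator subgroup if `t` fixes a nonsingular vector. -/
theorem exists_commutator_conj (h2 : (2 : F) = 0) (hQ : (polarBilin Q).Nondegenerate)
    (h : (∃ θ : F, θ ≠ 0 ∧ θ ≠ 1) ∨ Fintype.card ι ≠ 4) [Nonempty ι]
    {t s : Cfsg.isometryGroup F (⇑Q)} (hts : ∃ g, g * t * g⁻¹ = s)
    {u : ι → F} (hu : Q u ≠ 0) (htu : act t u = u) :
    ∃ g ∈ commutator (Cfsg.isometryGroup F (⇑Q)), g * t * g⁻¹ = s := by
  obtain ⟨g, hg⟩ := hts
  by_cases hgc : g ∈ commutator (Cfsg.isometryGroup F (⇑Q))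
  · exact ⟨g, hgc, hg⟩
  · refine ⟨g * reflIso Q u hu, index_two_mul Q h2 hQ h hgc u hu, ?_⟩
    have h1 : t * reflIso Q u hu * t⁻¹ = reflIso Q u hu := by
      have h3 : Q (((t : Matrix.GeneralLinearGroup ι F) : Matrix ι ι F) *ᵥ u) ≠ 0 := by
        rw [← act_def, htu]; exact hu
      rw [conj_reflIso Q u hu t h3]
      have h4 : ((t : Matrix.GeneralLinearGroup ι F) : Matrix ι ι F) *ᵥ u = u := htu
      congr 1
    have h5 : reflIso Q u hu * t * (reflIso Q u hu)⁻¹ = t := by
      have h6 : t * reflIso Q u hu = reflIso Q u hu * t := by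
        rw [← mul_inv_eq_iff_eq_mul]
        exact h1
      rw [← h6, mul_inv_cancel_right]
    calc g * reflIso Q u hu * t * (g * reflIso Q u hu)⁻¹
        = g * (reflIso Q u hu * t * (reflIso Q u hu)⁻¹) * g⁻¹ := by group
      _ = s := by rw [h5, hg]

/-- the image of `t - 1` -/
def im (t : Cfsg.isometryGroup F (⇑Q)) : Submodule F (ι → F) :=
  LinearMap.range (Matrix.mulVecLin (mat t - 1))

theorem mem_im {t : Cfsg.isometryGroup F (⇑Q)} {x : ι → F} :
    x ∈ im Q t ↔ ∃ y, act t y - y = x := by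
  unfold im
  constructor
  · rintro ⟨y, rfl⟩
    refine ⟨y, ?_⟩
    rw [Matrix.mulVecLin_apply, Matrix.sub_mulVec, Matrix.one_mulVec]
    rfl
  · rintro ⟨y, rfl⟩
    refine ⟨y, ?_⟩
    rw [Matrix.mulVecLin_apply, Matrix.sub_mulVec, Matrix.one_mulVec]
    rfl

/-- all fixed vectors singular -/
theorem singular_case (h2 : (2 : F) = 0) (hQ : (polarBilin Q).Nondegenerate) {m : ℕ}
    (hm : Fintype.card ι = 2 * m) {t : Cfsg.isometryGroup F (⇑Q)} (ht : t ^ 2 = 1)
    (h : ∀ u, act t u = u → Q u = 0) :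
    (mat t - 1).rank = m ∧ (∀ x, Q (act t x - x) = 0) ∧ finrank F (fixSp t) = m := by
  have h1 := finrank_fixSp_add_rank t
  have hle : im Q t ≤ fixSp t := by
    intro x hx
    obtain ⟨y, rfl⟩ := (mem_im Q).1 hx
    rw [mem_fixSp, act_sub, ← act_mul, ← _root_.sq, ht, act_one]
    rw [sub_eq_add_of_two h2, sub_eq_add_of_two h2, add_comm]
  have h3 : (mat t - 1).rank ≤ finrank F (fixSp t) := Submodule.finrank_mono hle
  have h4 : finrank F (fixSp t) ≤ m := by
    have h5 := ClassicalGeometry.SubmaximalCount.le_orthogonal_self (⇑Q) (polarBilin Q)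
      (fun u v => ClassicalGeometry.WittQuad.form_add Q u v) (W := fixSp t)
      (fun w hw => h w hw)
    have h6 := Submodule.finrank_mono h5
    rw [LinearMap.BilinForm.finrank_orthogonal hQ, finrank_fintype_fun_eq_card, hm] at h6
    omega
  refine ⟨by omega, fun x => ?_, by omega⟩
  apply h
  exact hle ((mem_im Q).2 ⟨x, rfl⟩)

/-! ### The two families -/

/-- the image of a subspace under an isometry -/
def img (g : Cfsg.isometryGroup F (⇑Q)) (W : Submodule F (ι → F)) : Submodule F (ι → F) :=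
  W.map (Matrix.mulVecLin (mat g))

theorem mem_img {g : Cfsg.isometryGroup F (⇑Q)} {W : Submodule F (ι → F)} {x : ι → F} :
    x ∈ img Q g W ↔ ∃ w ∈ W, act g w = x := Iff.rfl

theorem mul_inj (g : Cfsg.isometryGroup F (⇑Q)) :
    Function.Injective (Matrix.mulVecLin (mat g)) := by
  intro x y h
  have h1 : act g x = act g y := h
  rw [← act_inv_act g x, h1, act_inv_act]

theorem finrank_img (g : Cfsg.isometryGroup F (⇑Q)) (W : Submodule F (ι → F)) :
    finrank F (img Q g W) = finrank F W :=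
  ClassicalGeometry.WittStep.finrank_map_of_injective _ (mul_inj Q g) W

theorem img_inf (g : Cfsg.isometryGroup F (⇑Q)) (W W' : Submodule F (ι → F)) :
    img Q g (W ⊓ W') = img Q g W ⊓ img Q g W' :=
  Submodule.map_inf _ (mul_inj Q g)

theorem img_mul (g h : Cfsg.isometryGroup F (⇑Q)) (W : Submodule F (ι → F)) :
    img Q (g * h) W = img Q g (img Q h W) := by
  ext x
  rw [mem_img, mem_img]
  constructor
  · rintro ⟨w, hw, rfl⟩
    exact ⟨act h w, ⟨w, hw, rfl⟩, (act_mul g h w).symm⟩
  · rintro ⟨_, ⟨w, hw, rfl⟩, rfl⟩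
    exact ⟨w, hw, act_mul g h w⟩

theorem img_one (W : Submodule F (ι → F)) : img Q (1 : Cfsg.isometryGroup F (⇑Q)) W = W := by
  ext x
  rw [mem_img]
  constructor
  · rintro ⟨w, hw, rfl⟩
    rwa [act_one]
  · intro hx
    exact ⟨x, hx, act_one x⟩

theorem img_singular (g : Cfsg.isometryGroup F (⇑Q)) {W : Submodule F (ι → F)}
    (hW : ∀ w ∈ W, Q w = 0) : ∀ w ∈ img Q g W, Q w = 0 := by
  rintro _ ⟨w, hw, rfl⟩
  exact (Q_act g w).trans (hW w hw)

variable {Q} in
/-- parity of `dim (W ∩ g W) + m`. -/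
noncomputable def par (W : Submodule F (ι → F)) (m : ℕ) (g : Cfsg.isometryGroup F (⇑Q)) : ℤˣ :=
  (-1) ^ (finrank F ↥(W ⊓ img Q g W) + m)

theorem neg_one_pow_eq_of_even {a b : ℕ} (h : Even (a + b)) : (-1 : ℤˣ) ^ a = (-1) ^ b := by
  rcases Nat.even_or_odd a with ha | ha
  · have hb : Even b := (Nat.even_add.1 h).1 ha
    rw [ha.neg_one_pow, hb.neg_one_pow]
  · have hb : Odd b := by
      rw [← Nat.not_even_iff_odd] at ha ⊢
      exact fun hb => ha ((Nat.even_add.1 h).2 hb)
    rw [ha.neg_one_pow, hb.neg_one_pow]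

theorem par_mul (hQ : (polarBilin Q).Nondegenerate) {m : ℕ}
    (hm : Fintype.card ι = 2 * m) {W : Submodule F (ι → F)} (hW : ∀ w ∈ W, Q w = 0)
    (hWm : finrank F W = m) (g h : Cfsg.isometryGroup F (⇑Q)) :
    par W m (g * h) = par W m g * par W m h := by
  have h1 := ClassicalGeometry.TwoFamilies.even_intersections (B := polarBilin Q) (⇑Q)
    (fun u v => ClassicalGeometry.WittQuad.form_add Q u v) hQ (polarBilin_isRefl Q) m
    (by rw [finrank_fintype_fun_eq_card, hm]) W (img Q g W) (img Q (g * h) W) hWm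
    (by rw [finrank_img, hWm]) (by rw [finrank_img, hWm]) hW (img_singular Q g hW)
    (img_singular Q _ hW)
  have h3 : finrank F ↥(img Q g W ⊓ img Q (g * h) W) = finrank F ↥(W ⊓ img Q h W) := by
    rw [img_mul, ← img_inf, finrank_img]
  rw [h3] at h1
  unfold par
  rw [← pow_add]
  apply neg_one_pow_eq_of_even
  have : finrank F ↥(W ⊓ img Q (g * h) W) + m +
      (finrank F ↥(W ⊓ img Q g W) + m + (finrank F ↥(W ⊓ img Q h W) + m))
      = (finrank F ↥(W ⊓ img Q g W) + finrank F ↥(W ⊓ img Q h W)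
        + finrank F ↥(W ⊓ img Q (g * h) W) + m) + 2 * m := by ring
  rw [this]
  exact h1.add (even_two_mul m)

theorem par_one {m : ℕ} {W : Submodule F (ι → F)} (hWm : finrank F W = m) :
    par W m (1 : Cfsg.isometryGroup F (⇑Q)) = 1 := by
  unfold par
  rw [img_one, inf_idem, hWm, ← two_mul, pow_mul]
  simp

theorem par_refl (hQ : (polarBilin Q).Nondegenerate) {m : ℕ}
    (hm : Fintype.card ι = 2 * m) {W : Submodule F (ι → F)} (hW : ∀ w ∈ W, Q w = 0)
    (hWm : finrank F W = m) (u : ι → F) (hu : Q u ≠ 0) :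
    par W m (reflIso Q u hu) = -1 := by
  -- `W ∩ r W = W ∩ u^⊥`, a hyperplane of `W`
  have hself := ClassicalGeometry.SubmaximalCount.orthogonal_eq_self (⇑Q) (polarBilin Q)
    (fun u v => ClassicalGeometry.WittQuad.form_add Q u v) hQ
    (by rw [finrank_fintype_fun_eq_card, hm]) hW hWm
  set f : W →ₗ[F] F := (polarBilin Q u).comp W.subtype with hf
  have hf0 : f ≠ 0 := by
    intro h0
    apply hu
    apply hW
    rw [← hself, LinearMap.BilinForm.mem_orthogonal_iff]
    intro w hw
    have := LinearMap.congr_fun h0 ⟨w, hw⟩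
    rw [ClassicalGeometry.WittQuad.polar_comm']
    exact this
  have hker : W ⊓ img Q (reflIso Q u hu) W = (LinearMap.ker f).map W.subtype := by
    ext x
    rw [Submodule.mem_inf, mem_img, Submodule.mem_map]
    constructor
    · rintro ⟨hx, w, hw, hwx⟩
      refine ⟨⟨x, hx⟩, ?_, rfl⟩
      rw [LinearMap.mem_ker]
      show polar Q u x = 0
      rw [act_refl] at hwx
      by_contra hne
      have h3 : polar Q u w ≠ 0 := by
        intro h0
        rw [h0, mul_zero, zero_smul, sub_zero] at hwx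
        rw [← hwx] at hne
        exact hne h0
      have h4 : ((Q u)⁻¹ * polar Q u w) • u ∈ W := by
        have : ((Q u)⁻¹ * polar Q u w) • u = w - x := by rw [← hwx]; abel
        rw [this]
        exact W.sub_mem hw hx
      have h5 : u ∈ W := by
        have hc : (Q u)⁻¹ * polar Q u w ≠ 0 := mul_ne_zero (inv_ne_zero hu) h3
        have := W.smul_mem ((Q u)⁻¹ * polar Q u w)⁻¹ h4
        rwa [smul_smul, inv_mul_cancel₀ hc, one_smul] at this
      exact hu (hW u h5)
    · rintro ⟨⟨y, hy⟩, hyk, rfl⟩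
      rw [LinearMap.mem_ker] at hyk
      have hyk' : polar Q u y = 0 := hyk
      refine ⟨hy, y, hy, ?_⟩
      exact act_refl_of_polar Q u hu y hyk'
  have hsurj : LinearMap.range f = ⊤ := by
    rw [LinearMap.range_eq_top]
    intro c
    obtain ⟨w, hw⟩ : ∃ w, f w ≠ 0 := by
      by_contra hcon
      push Not at hcon
      exact hf0 (LinearMap.ext hcon)
    refine ⟨(c / f w) • w, ?_⟩
    rw [map_smul, smul_eq_mul, div_mul_cancel₀ _ hw]
  have hfr := LinearMap.finrank_range_add_finrank_ker f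
  rw [hsurj, finrank_top, finrank_self, hWm] at hfr
  unfold par
  rw [hker, ClassicalGeometry.WittStep.finrank_map_of_injective _ W.injective_subtype]
  have : Odd (finrank F (LinearMap.ker f) + m) := by
    rw [← hfr]
    exact ⟨finrank F (LinearMap.ker f), by ring⟩
  exact this.neg_one_pow

/-- **The two families of maximal totally singular subspaces and `Ω`.** -/
theorem mem_commutator_iff_inter (h2 : (2 : F) = 0) (hQ : (polarBilin Q).Nondegenerate)
    (h : (∃ θ : F, θ ≠ 0 ∧ θ ≠ 1) ∨ Fintype.card ι ≠ 4) [Nonempty ι] {m : ℕ}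
    (hm : Fintype.card ι = 2 * m) {W : Submodule F (ι → F)} (hW : ∀ w ∈ W, Q w = 0)
    (hWm : finrank F W = m) (g : Cfsg.isometryGroup F (⇑Q)) :
    g ∈ commutator (Cfsg.isometryGroup F (⇑Q)) ↔ Even (finrank F ↥(W ⊓ img Q g W) + m) := by
  have hker : ∀ g : Cfsg.isometryGroup F (⇑Q), g ∈ commutator (Cfsg.isometryGroup F (⇑Q)) →
      par W m g = 1 := by
    intro g hg
    let χ : Cfsg.isometryGroup F (⇑Q) →* ℤˣ :=
      { toFun := par W m
        map_one' := par_one Q hWm
        map_mul' := par_mul Q hQ hm hW hWm }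
    have := Abelianization.commutator_subset_ker χ hg
    exact this
  constructor
  · intro hg
    have h1 := hker g hg
    unfold par at h1
    by_contra hodd
    rw [Nat.not_even_iff_odd] at hodd
    rw [hodd.neg_one_pow] at h1
    exact absurd h1 (by decide)
  · intro he
    by_contra hg
    obtain ⟨u, hu⟩ : ∃ u, Q u ≠ 0 := by
      by_contra hcon
      push Not at hcon
      obtain ⟨i⟩ := ‹Nonempty ι›
      have h1 : (Pi.single i (1 : F) : ι → F) = 0 := by
        apply nondeg_left Q hQ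
        intro y
        rw [polar, hcon, hcon, hcon]
        ring
      have h3 := congrFun h1 i
      simp at h3
    have h3 := hker _ (index_two_mul Q h2 hQ h hg u hu)
    rw [par_mul Q hQ hm hW hWm, par_refl Q hQ hm hW hWm, par, he.neg_one_pow] at h3
    exact absurd h3 (by decide)

end Cfsg.Agent.H80
end

-- part: H80/OrthSplitMain
section
/-!
# Splitting of classes of involutions from `O(Q)` to `Ω(Q)`, characteristic two (helper80)
-/

set_option autoImplicit false
set_option linter.unusedSectionVars false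

namespace Cfsg.Agent.H80

open Module Matrix QuadraticMap
open Cfsg.Agent.ClassicalGeometry.OrthCharTwo
open Cfsg.Agent.ClassicalGeometry.OrthDickson
open Cfsg.Agent.ClassicalGeometry.Reflection

variable {ι : Type} [Fintype ι] [DecidableEq ι] {F : Type*} [Field F] [Finite F]

/-- the first part: no splitting outside the exceptional case -/
theorem split_one (h2 : (2 : F) = 0) {Qf : (ι → F) → F} {Q : QuadraticForm F (ι → F)}
    (hf : ⇑Q = Qf) (hQ : ∀ x, (∀ y, polar Q x y = 0) → x = 0) (hc : Fintype.card ι ≠ 4)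
    [Nonempty ι] {m : ℕ} (hm : Fintype.card ι = 2 * m) {t s : Cfsg.isometryGroup F Qf}
    (ht : t ^ 2 = 1) (hts : IsConj t s)
    (hne : ¬ ((mat t - 1).rank = m ∧ ∀ v, Qf (v + mat t *ᵥ v) = 0)) :
    ∃ g ∈ Cfsg.Omega F Qf, g * t * g⁻¹ = s := by
  subst hf
  have hQ' := nondeg_of Q hQ
  by_cases h : ∀ u, act t u = u → Q u = 0
  · exfalso
    apply hne
    obtain ⟨h1, h3, -⟩ := singular_case Q h2 hQ' hm ht h
    refine ⟨h1, fun v => ?_⟩
    rw [add_comm, ← sub_eq_add_of_two h2]
    exact h3 v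
  · push Not at h
    obtain ⟨u, htu, hu⟩ := h
    exact exists_commutator_conj Q h2 hQ' (Or.inr hc) (isConj_iff.1 hts) hu htu

/-- `im (t - 1)` is totally singular in the exceptional case -/
theorem split_two (h2 : (2 : F) = 0) {Qf : (ι → F) → F} {Q : QuadraticForm F (ι → F)}
    (hf : ⇑Q = Qf) (hQ : ∀ x, (∀ y, polar Q x y = 0) → x = 0) (hc : Fintype.card ι ≠ 4)
    [Nonempty ι] {m : ℕ} (hm : Fintype.card ι = 2 * m) {t s : Cfsg.isometryGroup F Qf}
    (ht : t ^ 2 = 1) (hts : IsConj t s)
    (hr : (mat t - 1).rank = m) (hz : ∀ v, Qf (v + mat t *ᵥ v) = 0) :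
    (∃ g ∈ Cfsg.Omega F Qf, g * t * g⁻¹ = s) ↔
      Even (Module.finrank F ↥(LinearMap.range (Matrix.toLin' (mat t - 1)) ⊓
        LinearMap.range (Matrix.toLin' (mat s - 1)))) := by
  subst hf
  have hQ' := nondeg_of Q hQ
  rw [Matrix.toLin'_apply', Matrix.toLin'_apply']
  change _ ↔ Even (Module.finrank F ↥(im Q t ⊓ im Q s))
  have hz' : ∀ v, Q (act t v - v) = 0 := by
    intro v
    rw [sub_eq_add_of_two h2, add_comm]
    exact hz v
  have hW : ∀ w ∈ im Q t, Q w = 0 := by
    intro w hw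
    obtain ⟨y, rfl⟩ := (mem_im Q).1 hw
    exact hz' y
  have hWm : finrank F (im Q t) = m := hr
  -- `m` is even
  have hme : Even m := by
    have hsq : Sq (polarBilin Q) (Matrix.mulVecLin (mat t)) := Sq.of_quad Q (lin_iso Q t)
      (lin_sq Q ht)
    have hS : LinearMap.IsSymm (polarBilin Q) := by
      constructor
      intro x y
      rw [RingHom.id_apply, ClassicalGeometry.WittQuad.polar_comm']
    obtain ⟨r, hr', -⟩ := exists_symplectic_eq hS hQ' hsq (fun x => by
      have h1 := quad_nil Q (t := Matrix.mulVecLin (mat t)) (lin_iso Q t) x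
      have h3 : Q (nil (Matrix.mulVecLin (mat t)) x) = 0 := hz' x
      rw [h3] at h1
      linear_combination h1)
    rw [rank_sub_one, hr'] at hr
    rw [← hr]
    exact even_two_mul r
  have himg : ∀ g : Cfsg.isometryGroup F (⇑Q), g * t * g⁻¹ = s → im Q s = img Q g (im Q t) := by
    intro g hg
    have hg' : g * t = s * g := by rw [← hg]; group
    ext x
    rw [mem_img, mem_im]
    constructor
    · rintro ⟨y, rfl⟩
      refine ⟨act t (act g⁻¹ y) - act g⁻¹ y, (mem_im Q).2 ⟨_, rfl⟩, ?_⟩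
      rw [act_sub, ← act_mul, hg', act_mul, act_act_inv]
    · rintro ⟨w, hw, rfl⟩
      obtain ⟨y, rfl⟩ := (mem_im Q).1 hw
      refine ⟨act g y, ?_⟩
      rw [act_sub, ← act_mul s, ← hg', act_mul]
  constructor
  · rintro ⟨g, hg, hgt⟩
    have h1 := (mem_commutator_iff_inter Q h2 hQ' (Or.inr hc) hm hW hWm g).1 hg
    rw [himg g hgt]
    exact (Nat.even_add.1 h1).2 hme
  · intro he
    obtain ⟨g, hgt⟩ := isConj_iff.1 hts
    refine ⟨g, (mem_commutator_iff_inter Q h2 hQ' (Or.inr hc) hm hW hWm g).2 ?_, hgt⟩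
    rw [← himg g hgt]
    exact he.add hme

/-- In the minus form there is no totally singular subspace of half the dimension. -/
theorem no_half {k : ℕ} (a b : F)
    (hab : ∀ z₁ z₂ : F, z₁ ^ 2 + a * z₁ * z₂ + b * z₂ ^ 2 = 0 → z₁ = 0 ∧ z₂ = 0)
    (W : Submodule F ((Fin k ⊕ Fin k) ⊕ Fin 2 → F)) (hWm : finrank F W = k + 1)
    (hW : ∀ w ∈ W, LieClassical.OrthForms.minusForm k F a b w = 0) : False := by
  set Q := LieClassical.OrthForms.minusForm k F a b with hQdef
  have hQ := nondeg_of Q (LieClassical.OrthForms.nondeg_minusForm k F a b hab)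
  let U : Submodule F ((Fin k ⊕ Fin k) ⊕ Fin 2 → F) :=
    { carrier := {x | (∀ i, x (.inl (.inr i)) = 0) ∧ ∀ j, x (.inr j) = 0}
      add_mem' := by
        rintro x y ⟨h1, h2⟩ ⟨h3, h4⟩
        refine ⟨fun i => ?_, fun i => ?_⟩
        · rw [Pi.add_apply, h1, h3, add_zero]
        · rw [Pi.add_apply, h2, h4, add_zero]
      zero_mem' := ⟨fun _ => rfl, fun _ => rfl⟩
      smul_mem' := by
        rintro c x ⟨h1, h2⟩
        refine ⟨fun i => ?_, fun i => ?_⟩
        · rw [Pi.smul_apply, h1, smul_zero]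
        · rw [Pi.smul_apply, h2, smul_zero] }
  have hUmem : ∀ x, x ∈ U ↔ (∀ i, x (.inl (.inr i)) = 0) ∧ ∀ j, x (.inr j) = 0 := fun x => Iff.rfl
  have hU : ∀ u ∈ U, Q u = 0 := by
    intro u hu
    obtain ⟨h1, h3⟩ := (hUmem u).1 hu
    rw [hQdef, LieClassical.OrthForms.coe_minusForm, LieClassical.OrthForms.quadFormMinus_apply,
      h3, h3]
    rw [Finset.sum_eq_zero fun i _ => by rw [h1, mul_zero]]
    ring
  have hUk : finrank F U ≤ k := by
    let f : U →ₗ[F] (Fin k → F) :=
      { toFun := fun x i => x.1 (.inl (.inl i))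
        map_add' := fun _ _ => rfl
        map_smul' := fun _ _ => rfl }
    have hf : Function.Injective f := by
      intro x y hxy
      apply Subtype.ext
      obtain ⟨h1, h3⟩ := (hUmem _).1 x.2
      obtain ⟨h4, h5⟩ := (hUmem _).1 y.2
      funext i
      rcases i with (i | i) | i
      · exact congrFun hxy i
      · rw [h1, h4]
      · rw [h3, h5]
    have := LinearMap.finrank_le_finrank_of_injective hf
    rwa [finrank_fintype_fun_eq_card, Fintype.card_fin] at this
  obtain ⟨W', hW'm, hW', hUW⟩ := ClassicalGeometry.SubmaximalCount.exists_maximal (⇑Q)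
    (polarBilin Q) (fun u v => ClassicalGeometry.WittQuad.form_add Q u v) hQ (m := k + 1)
    (by rw [finrank_fintype_fun_eq_card, Fintype.card_sum, Fintype.card_sum, Fintype.card_fin,
      Fintype.card_fin]; omega) hW hWm hU
  have hle : W' ≤ U := by
    intro w hw
    have h1 : ∀ i, w (.inl (.inr i)) = 0 := by
      intro i
      have h3 := ClassicalGeometry.SubmaximalCount.polar_eq_zero (⇑Q)
        (polarBilin Q) (fun u v => ClassicalGeometry.WittQuad.form_add Q u v) hW'
        (u := Pi.single (.inl (.inl i)) 1) (hUW ((hUmem _).2 ⟨fun j => by simp, fun j => by simp⟩)) hw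
      have h4 : polar Q (Pi.single (.inl (.inl i)) 1) w = 0 := h3
      rw [hQdef, LieClassical.OrthForms.polar_minusForm] at h4
      simpa [Pi.single_apply] using h4
    have h3 := hW' w hw
    rw [hQdef, LieClassical.OrthForms.coe_minusForm, LieClassical.OrthForms.quadFormMinus_apply,
      Finset.sum_eq_zero fun i _ => by rw [h1, mul_zero], zero_add] at h3
    obtain ⟨h4, h5⟩ := hab _ _ h3
    refine (hUmem w).2 ⟨h1, fun j => ?_⟩
    fin_cases j
    · exact h4
    · exact h5
  have := Submodule.finrank_mono hle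
  omega

/-- the minus type -/
theorem split_minus (h2 : (2 : F) = 0) {k : ℕ} (hk : 2 ≤ k) (a b : F)
    (hab : ∀ z₁ z₂ : F, z₁ ^ 2 + a * z₁ * z₂ + b * z₂ ^ 2 = 0 → z₁ = 0 ∧ z₂ = 0)
    {t s : Cfsg.isometryGroup F (Cfsg.quadFormMinus k F a b)}
    (ht : t ^ 2 = 1) (hts : IsConj t s) :
    ∃ g ∈ Cfsg.Omega F (Cfsg.quadFormMinus k F a b), g * t * g⁻¹ = s := by
  revert t s
  rw [← LieClassical.OrthForms.coe_minusForm]
  intro t s ht hts
  have hQ := LieClassical.OrthForms.nondeg_minusForm k F a b hab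
  have hcard : Fintype.card ((Fin k ⊕ Fin k) ⊕ Fin 2) = 2 * (k + 1) := by
    rw [Fintype.card_sum, Fintype.card_sum, Fintype.card_fin,
      Fintype.card_fin]; omega
  apply split_one h2 rfl hQ (by omega) hcard ht hts
  rintro ⟨hr, hz⟩
  refine no_half a b hab (im _ t) hr ?_
  intro w hw
  obtain ⟨y, rfl⟩ := (mem_im _).1 hw
  rw [sub_eq_add_of_two h2, add_comm]
  exact hz y

end Cfsg.Agent.H80
end
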